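import Cfsg.Agent.H686.Odd.McLFive

/-!
# S4820, `p = 3`, `McL`: relations in the model on 275 points (helper729)

* relations of the words `h14`, `q13`, `r12`;
* `conj_a` : the noncentral elements of the Sylow 5-subgroup `⟨a, b⟩` are conjugate.
-/

set_option autoImplicit false
set_option maxRecDepth 100000

namespace Cfsg.Agent.H729.TI

open Subgroup Equiv Cfsg.Agent.SporadicA.PermTab Cfsg.Agent.H904.McLCent Cfsg.Agent.McLType.X275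
  Cfsg.Agent.McLType.Gens Cfsg.Agent.McLType.Model Cfsg.Agent.H58.McLOdd Cfsg.Agent.H686.Odd.McL
open scoped commutatorElement

def h14 : List ℕ := [6, 5, 0, 6, 3, 5, 4, 6, 5, 4, 6, 4, 3, 0]
def q13 : List ℕ := [3, 4, 6, 3, 4, 5, 6, 5, 3, 4, 3, 0, 1]
def r12 : List ℕ := [3, 4, 1, 2, 3, 6, 5, 3, 4, 5, 0, 6]

theorem cH : (chk (cj h14 s6) (iv s6) && chk (cj h14 (cm x5 y5)) (pw (cm x5 y5) 2)) = true := by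
  decide +kernel

theorem cQ : (chk (q13 ++ s6) (s6 ++ q13) && chk (q13 ++ q13) (pw s6 3)) = true := by
  decide +kernel

theorem cR : (chk (r12 ++ s6) (s6 ++ r12) && chk (cj r12 q13) (iv q13)) = true := by
  decide +kernel

theorem hs : wd h14 * s * (wd h14)⁻¹ = s⁻¹ := by
  have h := cH
  simp only [Bool.and_eq_true] at h
  rw [s, ← wd_cj, ← wd_iv]; exact eq_of_chk h.1

theorem hc : wd h14 * c * (wd h14)⁻¹ = c ^ 2 := by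
  have h := cH
  simp only [Bool.and_eq_true] at h
  rw [c_eq, ← wd_cj, ← wd_pw]; exact eq_of_chk h.2

theorem qs : wd q13 * s = s * wd q13 := by
  have h := cQ
  simp only [Bool.and_eq_true] at h
  rw [s, ← wd_app, ← wd_app]; exact eq_of_chk h.1

theorem qq : wd q13 * wd q13 = s ^ 3 := by
  have h := cQ
  simp only [Bool.and_eq_true] at h
  rw [s, ← wd_app, ← wd_pw]; exact eq_of_chk h.2

theorem rs : wd r12 * s = s * wd r12 := by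
  have h := cR
  simp only [Bool.and_eq_true] at h
  rw [s, ← wd_app, ← wd_app]; exact eq_of_chk h.1

theorem rq : wd r12 * wd q13 * (wd r12)⁻¹ = (wd q13)⁻¹ := by
  have h := cR
  simp only [Bool.and_eq_true] at h
  rw [← wd_cj, ← wd_iv]; exact eq_of_chk h.2

/-- words conjugating `a` to `a ^ i * b ^ j` -/
def cjl : List (ℕ × ℕ × List ℕ) :=
  [(0, 1, [0, 3, 6, 2, 0, 5, 6, 2, 5, 3, 0, 1, 6, 1, 3, 6, 5, 4, 2, 0, 5, 3, 6, 5, 0, 6, 5, 2, 6, 4, 5, 3, 6, 3, 5, 0, 6, 5, 2, 6, 4, 5, 3, 6, 3]),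
   (0, 2, [0, 3, 5, 2, 6, 5, 0, 2, 6, 3, 0, 6, 3, 5, 0, 2, 4, 5, 6, 3, 1, 6, 1, 5, 0, 6, 5, 2, 6, 4, 5, 3, 6, 3, 5, 0, 6, 5, 2, 6, 4, 5, 3, 6, 3]),
   (0, 3, [0, 3, 5, 2, 6, 5, 0, 2, 6, 3, 0, 0, 3, 5, 2, 6, 5, 0, 2, 6, 3, 0, 6, 3, 5, 0, 2, 4, 5, 6, 3, 1, 6, 1, 3, 6, 3, 5, 4, 6, 2, 5, 6, 0, 5]),
   (0, 4, [0, 3, 5, 2, 6, 5, 0, 2, 6, 3, 0, 0, 3, 5, 2, 6, 5, 0, 2, 6, 3, 0, 1, 6, 1, 3, 6, 5, 4, 2, 0, 5, 3, 6, 3, 6, 3, 5, 4, 6, 2, 5, 6, 0, 5]),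
   (1, 0, []),
   (1, 1, [0, 3, 5, 2, 6, 5, 0, 2, 6, 3, 0, 0, 3, 5, 2, 6, 5, 0, 2, 6, 3, 0, 3, 6, 3, 5, 4, 6, 2, 5, 6, 0, 5, 3, 6, 3, 5, 4, 6, 2, 5, 6, 0, 5]),
   (1, 2, [0, 3, 6, 2, 0, 5, 6, 2, 5, 3, 0, 6, 3, 5, 0, 2, 4, 5, 6, 3, 1, 6, 1]),
   (1, 3, [0, 3, 6, 2, 0, 5, 6, 2, 5, 3, 0, 1, 6, 1, 3, 6, 5, 4, 2, 0, 5, 3, 6, 1, 6, 1, 3, 6, 5, 4, 2, 0, 5, 3, 6, 3, 6, 3, 5, 4, 6, 2, 5, 6, 0, 5]),
   (1, 4, [6, 3, 5, 0, 2, 4, 5, 6, 3, 1, 6, 1, 5, 0, 6, 5, 2, 6, 4, 5, 3, 6, 3]),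
   (2, 0, [6, 3, 5, 0, 2, 4, 5, 6, 3, 1, 6, 1, 6, 3, 5, 0, 2, 4, 5, 6, 3, 1, 6, 1]),
   (2, 1, [0, 3, 5, 2, 6, 5, 0, 2, 6, 3, 0, 3, 6, 3, 5, 4, 6, 2, 5, 6, 0, 5]),
   (2, 2, [0, 3, 5, 2, 6, 5, 0, 2, 6, 3, 0, 0, 3, 5, 2, 6, 5, 0, 2, 6, 3, 0, 1, 6, 1, 3, 6, 5, 4, 2, 0, 5, 3, 6, 1, 6, 1, 3, 6, 5, 4, 2, 0, 5, 3, 6, 5, 0, 6, 5, 2, 6, 4, 5, 3, 6, 3]),
   (2, 3, [0, 3, 6, 2, 0, 5, 6, 2, 5, 3, 0, 0, 3, 6, 2, 0, 5, 6, 2, 5, 3, 0, 1, 6, 1, 3, 6, 5, 4, 2, 0, 5, 3, 6, 3, 6, 3, 5, 4, 6, 2, 5, 6, 0, 5, 3, 6, 3, 5, 4, 6, 2, 5, 6, 0, 5]),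
   (2, 4, [0, 3, 5, 2, 6, 5, 0, 2, 6, 3, 0, 6, 3, 5, 0, 2, 4, 5, 6, 3, 1, 6, 1, 6, 3, 5, 0, 2, 4, 5, 6, 3, 1, 6, 1, 6, 3, 5, 0, 2, 4, 5, 6, 3, 1, 6, 1]),
   (3, 0, [1, 6, 1, 3, 6, 5, 4, 2, 0, 5, 3, 6, 1, 6, 1, 3, 6, 5, 4, 2, 0, 5, 3, 6]),
   (3, 1, [4, 5, 2, 6, 5, 6, 3, 0, 6, 3, 4, 5, 6, 2, 1, 0, 1, 6, 1, 3, 6, 5, 4, 2, 0, 5, 3, 6]),
   (3, 2, [0, 3, 5, 2, 6, 5, 0, 2, 6, 3, 0, 1, 6, 1, 3, 6, 5, 4, 2, 0, 5, 3, 6, 5, 0, 6, 5, 2, 6, 4, 5, 3, 6, 3]),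
   (3, 3, [0, 3, 5, 2, 6, 5, 0, 2, 6, 3, 0, 0, 3, 5, 2, 6, 5, 0, 2, 6, 3, 0, 6, 3, 5, 0, 2, 4, 5, 6, 3, 1, 6, 1, 6, 3, 5, 0, 2, 4, 5, 6, 3, 1, 6, 1, 5, 0, 6, 5, 2, 6, 4, 5, 3, 6, 3]),
   (3, 4, [4, 5, 2, 6, 5, 6, 3, 0, 6, 3, 4, 5, 6, 2, 1, 0, 5, 0, 6, 5, 2, 6, 4, 5, 3, 6, 3, 5, 0, 6, 5, 2, 6, 4, 5, 3, 6, 3]),
   (4, 0, [0, 1, 2, 6, 5, 4, 3, 6, 0, 3, 6, 5, 6, 2, 5, 4, 3, 6, 3, 5, 4, 6, 2, 5, 6, 0, 5, 3, 6, 3, 5, 4, 6, 2, 5, 6, 0, 5, 3, 6, 3, 5, 4, 6, 2, 5, 6, 0, 5]),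
   (4, 1, [0, 3, 6, 2, 0, 5, 6, 2, 5, 3, 0, 6, 3, 5, 0, 2, 4, 5, 6, 3, 1, 6, 1, 3, 6, 3, 5, 4, 6, 2, 5, 6, 0, 5, 3, 6, 3, 5, 4, 6, 2, 5, 6, 0, 5]),
   (4, 2, [6, 3, 5, 0, 2, 4, 5, 6, 3, 1, 6, 1, 6, 3, 5, 0, 2, 4, 5, 6, 3, 1, 6, 1, 3, 6, 3, 5, 4, 6, 2, 5, 6, 0, 5]),
   (4, 3, [1, 6, 1, 3, 6, 5, 4, 2, 0, 5, 3, 6, 1, 6, 1, 3, 6, 5, 4, 2, 0, 5, 3, 6, 1, 6, 1, 3, 6, 5, 4, 2, 0, 5, 3, 6]),
   (4, 4, [0, 3, 5, 2, 6, 5, 0, 2, 6, 3, 0, 0, 3, 5, 2, 6, 5, 0, 2, 6, 3, 0, 5, 0, 6, 5, 2, 6, 4, 5, 3, 6, 3])]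

theorem cjl_chk_a : ∀ t ∈ cjl.take 6, chk (cj t.2.2 x5) (pw x5 t.1 ++ pw y5 t.2.1) = true := by
  decide +kernel

theorem cjl_chk_b : ∀ t ∈ (cjl.drop 6).take 6,
    chk (cj t.2.2 x5) (pw x5 t.1 ++ pw y5 t.2.1) = true := by
  decide +kernel

theorem cjl_chk_c : ∀ t ∈ ((cjl.drop 6).drop 6).take 6,
    chk (cj t.2.2 x5) (pw x5 t.1 ++ pw y5 t.2.1) = true := by
  decide +kernel

theorem cjl_chk_d : ∀ t ∈ ((cjl.drop 6).drop 6).drop 6,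
    chk (cj t.2.2 x5) (pw x5 t.1 ++ pw y5 t.2.1) = true := by
  decide +kernel

theorem cjl_chk : ∀ t ∈ cjl, chk (cj t.2.2 x5) (pw x5 t.1 ++ pw y5 t.2.1) = true := by
  intro t ht
  rw [← List.take_append_drop 6 cjl, List.mem_append] at ht
  rcases ht with ht | ht
  · exact cjl_chk_a t ht
  rw [← List.take_append_drop 6 (cjl.drop 6), List.mem_append] at ht
  rcases ht with ht | ht
  · exact cjl_chk_b t ht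
  rw [← List.take_append_drop 6 ((cjl.drop 6).drop 6), List.mem_append] at ht
  rcases ht with ht | ht
  · exact cjl_chk_c t ht
  · exact cjl_chk_d t ht

theorem cjl_mem : ∀ i j : Fin 5, (i = 0 ∧ j = 0) ∨ ∃ t ∈ cjl, t.1 = i ∧ t.2.1 = j := by
  decide +kernel

theorem conj_ab {i j : ℕ} (hi : i < 5) (hj : j < 5) (h : ¬ (i = 0 ∧ j = 0)) : IsConj a (a ^ i * b ^ j) := by
  rcases cjl_mem ⟨i, hi⟩ ⟨j, hj⟩ with h1 | ⟨t, ht, h1, h2⟩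
  · exact absurd ⟨congrArg Fin.val h1.1, congrArg Fin.val h1.2⟩ h
  · have h3 := eq_of_chk (cjl_chk t ht)
    rw [wd_cj, wd_app, wd_pw, wd_pw] at h3
    simp only at h1 h2
    rw [h1, h2] at h3
    exact isConj_iff.2 ⟨wd t.2.2, h3⟩

/-- `a ^ i b ^ j` and `a ^ i b ^ j c ^ k` are conjugate -/
theorem conj_abc {i j : ℤ} (k : ℤ) (h : ¬ ((5 : ℤ) ∣ i ∧ (5 : ℤ) ∣ j)) :
    IsConj (a ^ i * b ^ j) (a ^ i * (b ^ j * c ^ k)) := by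
  rw [isConj_iff]
  by_cases hj : (5 : ℤ) ∣ j
  · have hi : ¬ (5 : ℤ) ∣ i := fun hi => h ⟨hi, hj⟩
    obtain ⟨u, v, huv⟩ : IsCoprime i 5 := by
      rw [Int.isCoprime_iff_gcd_eq_one, Int.gcd_comm]
      exact (Int.prime_iff_natAbs_prime.2 (by norm_num) : Prime (5 : ℤ)).coprime_iff_not_dvd.2 hi |> Int.isCoprime_iff_gcd_eq_one.1
    refine ⟨b ^ (-k * u), ?_⟩
    have h1 : b ^ (-k * u) * a ^ i = a ^ i * (b ^ (-k * u) * c ^ (-(i * (-k * u)))) := ba i (-k * u)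
    have h2 : c ^ (-(i * (-k * u))) = c ^ k := by
      rw [show -(i * (-k * u)) = k + 5 * (-k * v) by linear_combination k * huv, zpow_add, zpow_mul,
        show c ^ (5 : ℤ) = 1 from by exact_mod_cast c_pow, one_zpow, mul_one]
    have e1 : c ^ k * b ^ j = b ^ j * c ^ k := ((show Commute c b from cb).zpow_zpow _ _).eq
    have e2 : c ^ k * (b ^ (-k * u))⁻¹ = (b ^ (-k * u))⁻¹ * c ^ k := by
      rw [← zpow_neg]; exact ((show Commute c b from cb).zpow_zpow _ _).eq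
    calc b ^ (-k * u) * (a ^ i * b ^ j) * (b ^ (-k * u))⁻¹ = (b ^ (-k * u) * a ^ i) * b ^ j * (b ^ (-k * u))⁻¹ := by group
      _ = a ^ i * b ^ (-k * u) * (c ^ k * b ^ j) * (b ^ (-k * u))⁻¹ := by rw [h1, h2]; group
      _ = a ^ i * b ^ (-k * u) * b ^ j * (c ^ k * (b ^ (-k * u))⁻¹) := by rw [e1]; group
      _ = _ := by rw [e2]; group
  · obtain ⟨u, v, huv⟩ : IsCoprime j 5 := by
      rw [Int.isCoprime_iff_gcd_eq_one, Int.gcd_comm]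
      exact (Int.prime_iff_natAbs_prime.2 (by norm_num) : Prime (5 : ℤ)).coprime_iff_not_dvd.2 hj |> Int.isCoprime_iff_gcd_eq_one.1
    refine ⟨a ^ (k * u), ?_⟩
    have h1 := ba (k * u) j
    have h2 : c ^ (-(k * u * j)) = c ^ (-k) := by
      rw [show -(k * u * j) = -k + 5 * (k * v) by linear_combination (-k) * huv, zpow_add, zpow_mul,
        show c ^ (5 : ℤ) = 1 from by exact_mod_cast c_pow, one_zpow, mul_one]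
    rw [h2] at h1
    have h3 : a ^ (k * u) * b ^ j = b ^ j * a ^ (k * u) * c ^ k := by
      rw [h1]
      have e1 : c ^ (-k) * c ^ k = 1 := by rw [← zpow_add]; simp
      calc a ^ (k * u) * b ^ j = a ^ (k * u) * (b ^ j * (c ^ (-k) * c ^ k)) := by rw [e1, mul_one]
        _ = _ := by group
    have e2 : c ^ k * (a ^ (k * u))⁻¹ = (a ^ (k * u))⁻¹ * c ^ k := by
      rw [← zpow_neg]; exact ((show Commute c a from ca).zpow_zpow _ _).eq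
    calc a ^ (k * u) * (a ^ i * b ^ j) * (a ^ (k * u))⁻¹ = a ^ i * (a ^ (k * u) * b ^ j) * (a ^ (k * u))⁻¹ := by group
      _ = a ^ i * b ^ j * a ^ (k * u) * (c ^ k * (a ^ (k * u))⁻¹) := by rw [h3]; group
      _ = _ := by rw [e2]; group

/-- the noncentral elements of the Sylow `5`-subgroup are conjugate (`n`, `s` act transitively on `P/Z(P)`) -/
theorem conj_a {g : G1} (hg : g ∈ closure ({a, b} : Set G1)) (hg' : g ∉ zpowers c) : IsConj a g := by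
  obtain ⟨i, j, k, rfl⟩ := exists_abc hg
  have h : ¬ ((5 : ℤ) ∣ i ∧ (5 : ℤ) ∣ j) := by
    rintro ⟨⟨u, rfl⟩, ⟨v, rfl⟩⟩
    apply hg'
    rw [zpow_mul, zpow_mul, show a ^ (5 : ℤ) = 1 from by exact_mod_cast a_pow,
      show b ^ (5 : ℤ) = 1 from by exact_mod_cast b_pow, one_zpow, one_zpow, one_mul, one_mul]
    exact zpow_mem (mem_zpowers c) k
  refine IsConj.trans ?_ (conj_abc k h)
  rw [zpow_mod5 a_pow i, zpow_mod5 b_pow j]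
  exact conj_ab (by omega) (by omega) (by omega)

end Cfsg.Agent.H729.TI
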